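import Cfsg.Agent.Lib.Recog.SporBound.Sound

set_option autoImplicit false
set_option maxRecDepth 20000

/-! Generated certificate data, piece 0: the case ThreeC collapses (owner: helper29). -/

namespace CfsgLib.Recog.SporBound.J3TThreeC
open CfsgLib.Recog.SporBound

noncomputable def ft0 : Q (ℕ) := (.leaf 0x2f0000000003f000030000af0000300004f0000200005f0000600000f0000300003500002000025000000000060000100000f00000000002000020000320000600007f0000500008f0000400009f00005000092000040000820000700007200001000013000010000140000000000100000000005000030000a4000080000910000700008700006000071000050000670000400005100003000047000020000310000000002700000000010)
noncomputable def ct0 : Q (ℕ) := (.leaf 0)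
noncomputable def st0 : Q (List ℕ) := (.leaf [62, 63, 0x100001000000000000040, 0x100001000000000000041, 0x600005000040000300002000010000b000010000200003000040000500006000000000d000070000d0001e, 0x400005000060000e000070000000005000080000300017, 0x40000300002000010000b0000100002000030000400005000060000700008000000000d000090000d0001e, 0x400010000080000f00004000100000000006000090000100008, 0x400011000080000000003000080000000001, 0x500012000070000000003000070000000007, 0x3000020000300004000120000f0000100005000040000400017, 0xb000010000200001000140000300002000030000200017, 0xb00015000000000d00000000000000b00015000050000300000000020000b, 0xb0000b000150001600000000150000b0001600000000160000c00000000160000c000000000b00015000160000000015000010001300000000020000d, 0x10000a00001000160000c000160000200004000000000400019, 0x200002000180000100002000020000000011, 0x130000600005000040000300002000010000b0000100002000030000400005000130000600005000040000300002000010000000014000000000000042, 0x10001a000050000000003000050000000007, 0x20001b000040000000003000040000000001, 0x190001c00003000190001c000030000900000000070000a0000400019, 0xb00001000020001d0000900002000010000b000160000c000160000b00001000020001d00009000000001000003000020001c, 0xb0001e000020000000003000020000000001])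
noncomputable def et0 : Q (List ℕ) := (.leaf [0x16000000000200000, 0xb0000100000, 0x150000100000, 0x160000d000160000300000, 0x160000c000160000300000, 0xa0000100000, 0x170000100000, 0x1f000010000200000])

end CfsgLib.Recog.SporBound.J3TThreeC
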